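import Mathlib
import Groth.Prelude.Def_Found

/-!
Transport of completions and regular homomorphisms along ring isomorphisms.
-/

set_option autoImplicit false

universe u

open TensorProduct

namespace Groth.Agent.ExcLib

theorem factorPow_evalₐ {R : Type u} [CommRing R] (I : Ideal R) {m n : ℕ} (h : m ≤ n)
    (x : AdicCompletion I R) :
    Ideal.Quotient.factorPow I h (AdicCompletion.evalₐ I n x) = AdicCompletion.evalₐ I m x := by
  induction x using AdicCompletion.induction_on with
  | h f =>
    rw [AdicCompletion.evalₐ_mk, AdicCompletion.evalₐ_mk, Ideal.Quotient.factor_mk,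
      Ideal.Quotient.mk_eq_mk_iff_sub_mem]
    have := f.2 h
    rw [SModEq.sub_mem, smul_eq_mul, Ideal.mul_top] at this
    rw [← neg_sub]
    exact (Submodule.neg_mem_iff _).2 this

section Compl

variable {R R' : Type u} [CommRing R] [CommRing R'] (e : R ≃+* R') (I : Ideal R) (I' : Ideal R')
  (h : I.map (e : R →+* R') = I')

/-- The component maps of the completion of an isomorphism. -/
noncomputable def levelMap (n : ℕ) : AdicCompletion I R →+* R' ⧸ I' ^ n :=
  (Ideal.quotientMap (I' ^ n) (e : R →+* R') (I := I ^ n) (by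
    rw [← Ideal.map_le_iff_le_comap, Ideal.map_pow, h])).comp (AdicCompletion.evalₐ I n).toRingHom

theorem levelMap_compat {m n : ℕ} (hle : m ≤ n) :
    (Ideal.Quotient.factorPow I' hle).comp (levelMap e I I' h n) = levelMap e I I' h m := by
  ext x
  simp only [levelMap, RingHom.comp_apply, AlgHom.toRingHom_eq_coe, RingHom.coe_coe]
  rw [← factorPow_evalₐ I hle x]
  obtain ⟨a, ha⟩ := Ideal.Quotient.mk_surjective (AdicCompletion.evalₐ I n x)
  rw [← ha, Ideal.Quotient.factor_mk, Ideal.quotientMap_mk, Ideal.quotientMap_mk, Ideal.Quotient.factor_mk]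

/-- The completion of an isomorphism. -/
noncomputable def complMap : AdicCompletion I R →+* AdicCompletion I' R' :=
  AdicCompletion.liftRingHom I' (levelMap e I I' h) (fun hle => levelMap_compat e I I' h hle)

theorem evalₐ_complMap (n : ℕ) (x : AdicCompletion I R) :
    AdicCompletion.evalₐ I' n (complMap e I I' h x) = levelMap e I I' h n x :=
  AdicCompletion.evalₐ_liftRingHom I' _ (fun hle => levelMap_compat e I I' h hle) n x

theorem complMap_symm (h' : I'.map (e.symm : R' →+* R) = I) (x : AdicCompletion I R) :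
    complMap e.symm I' I h' (complMap e I I' h x) = x := by
  refine AdicCompletion.ext_evalₐ fun n => ?_
  rw [evalₐ_complMap]
  simp only [levelMap, RingHom.comp_apply, AlgHom.toRingHom_eq_coe, RingHom.coe_coe, evalₐ_complMap]
  obtain ⟨a, ha⟩ := Ideal.Quotient.mk_surjective (AdicCompletion.evalₐ I n x)
  rw [← ha, Ideal.quotientMap_mk, Ideal.quotientMap_mk]
  simp

theorem complMap_algebraMap (a : R) :
    complMap e I I' h (algebraMap R _ a) = algebraMap R' _ (e a) := by
  refine AdicCompletion.ext_evalₐ fun n => ?_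
  rw [evalₐ_complMap]
  simp only [levelMap, RingHom.comp_apply, AlgHom.toRingHom_eq_coe, RingHom.coe_coe, AlgHom.commutes,
    Ideal.Quotient.algebraMap_eq, Ideal.quotientMap_mk]

/-- The completion of an isomorphism, as an isomorphism. -/
noncomputable def complEquiv : AdicCompletion I R ≃+* AdicCompletion I' R' :=
  have h' : I'.map (e.symm : R' →+* R) = I := by
    rw [← h, Ideal.map_map, RingEquiv.symm_comp, Ideal.map_id]
  { complMap e I I' h with
    invFun := complMap e.symm I' I h'
    left_inv := complMap_symm e I I' h h'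
    right_inv := fun x => complMap_symm e.symm I' I h' (by rw [RingEquiv.symm_symm]; exact h) x }

theorem complEquiv_algebraMap (a : R) :
    complEquiv e I I' h (algebraMap R _ a) = algebraMap R' _ (e a) :=
  complMap_algebraMap e I I' h a

end Compl

/-- Regularity of a homomorphism is invariant under isomorphisms. -/
theorem isRegularHom_of_ringEquiv {R R' S S' : Type u} [CommRing R] [CommRing R'] [CommRing S]
    [CommRing S'] [Algebra R S] [Algebra R' S'] (e : R ≃+* R') (φ : S ≃+* S')
    (hcomm : ∀ a, φ (algebraMap R S a) = algebraMap R' S' (e a))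
    (h : CAlg.IsRegularHom R S) : CAlg.IsRegularHom R' S' := by
  obtain ⟨hflat, hfib⟩ := h
  letI : Algebra R R' := (e : R →+* R').toAlgebra
  letI : Algebra R S' := ((algebraMap R' S').comp (e : R →+* R')).toAlgebra
  haveI : IsScalarTower R R' S' := .of_algebraMap_eq fun _ => rfl
  let φ' : S ≃ₐ[R] S' := AlgEquiv.ofRingEquiv (f := φ) hcomm
  haveI : IsLocalization (⊥ : Submonoid R) R' :=
    { map_units := fun ⟨y, hy⟩ => by
        rw [Submonoid.mem_bot] at hy
        subst hy
        simp
      surj := fun z => ⟨(e.symm z, 1), by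
        show z * algebraMap R R' 1 = e (e.symm z)
        rw [map_one, mul_one, e.apply_symm_apply]⟩
      exists_of_eq := fun {x y} hxy => ⟨1, by rw [e.injective hxy]⟩ }
  haveI : Module.Flat R S' := Module.Flat.of_linearEquiv φ'.symm.toLinearEquiv
  refine ⟨(Module.flat_iff_of_isLocalization R' (⊥ : Submonoid R) S').2 inferInstance, fun p' hp' => ?_⟩
  haveI := hp'
  let p : Ideal R := p'.under R
  haveI : p'.LiesOver p := ⟨rfl⟩
  obtain ⟨hN, hG⟩ := hfib p
  let κ := p.ResidueField
  let κ' := p'.ResidueField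
  letI : Algebra κ κ' := (Ideal.ResidueField.map p p' (algebraMap R R') rfl).toAlgebra
  haveI : IsScalarTower R κ κ' := .of_algebraMap_eq fun x => by
    rw [RingHom.algebraMap_toAlgebra]
    exact ((Ideal.ResidueField.map_algebraMap p p' (algebraMap R R') rfl x).trans
      (IsScalarTower.algebraMap_apply R R' κ' x).symm).symm
  have hsurj : Function.Surjective (algebraMap κ κ') := by
    intro z
    obtain ⟨z, rfl⟩ := IsLocalRing.residue_surjective z
    obtain ⟨a, s, rfl⟩ := IsLocalization.exists_mk'_eq p'.primeCompl z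
    obtain ⟨a, rfl⟩ := e.surjective a
    obtain ⟨t, ht⟩ := e.surjective (s : R')
    have htp : t ∉ p := fun h => s.2 (ht ▸ h)
    refine ⟨algebraMap R κ a / algebraMap R κ t, ?_⟩
    have hs0 : algebraMap R' κ' (s : R') ≠ 0 := fun h => s.2 (Ideal.algebraMap_residueField_eq_zero.1 h)
    rw [map_div₀, ← IsScalarTower.algebraMap_apply, ← IsScalarTower.algebraMap_apply,
      IsScalarTower.algebraMap_apply R R' κ', IsScalarTower.algebraMap_apply R R' κ' t,
      show algebraMap R R' t = (s : R') from ht, div_eq_iff hs0]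
    rw [IsScalarTower.algebraMap_apply R' (Localization.AtPrime p') κ' (s : R'),
      IsScalarTower.algebraMap_apply R' (Localization.AtPrime p') κ' (algebraMap R R' a),
      IsLocalRing.ResidueField.algebraMap_eq, ← map_mul, IsLocalization.mk'_spec]
    rfl
  haveI : Module.Finite κ κ' := RingHom.finite_algebraMap.1 (RingHom.Finite.of_surjective _ hsurj)
  have key : ∀ (k' : Type u) [Field k'] [Algebra κ' k'] [Algebra κ k'] [IsScalarTower κ κ' k'],
      Nonempty (k' ⊗[κ'] (p'.Fiber S') ≃+* k' ⊗[κ] (p.Fiber S)) := by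
    intro k' _ _ _ _
    letI : Algebra R' k' := ((algebraMap κ' k').comp (algebraMap R' κ')).toAlgebra
    letI : Algebra R k' := ((algebraMap R' k').comp (algebraMap R R')).toAlgebra
    haveI : IsScalarTower R' κ' k' := .of_algebraMap_eq fun _ => rfl
    haveI : IsScalarTower R R' k' := .of_algebraMap_eq fun _ => rfl
    haveI : IsScalarTower R κ k' := .of_algebraMap_eq fun x => by
      rw [IsScalarTower.algebraMap_apply κ κ' k', ← IsScalarTower.algebraMap_apply R κ κ',
        IsScalarTower.algebraMap_apply R R' κ']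
      rfl
    let e1 : k' ⊗[κ'] (p'.Fiber S') ≃ₐ[k'] k' ⊗[R'] S' :=
      Algebra.TensorProduct.cancelBaseChange R' κ' k' k' S'
    let e2 : k' ⊗[R'] S' ≃ₐ[k'] k' ⊗[R] S' :=
      haveI := IsLocalization.tensorProduct_compatibleSMul (⊥ : Submonoid R) R' k' S'
      (Algebra.TensorProduct.equivOfCompatibleSMul R' R k' k' S').symm
    let e3 : k' ⊗[R] S' ≃ₐ[k'] k' ⊗[R] S := Algebra.TensorProduct.congr AlgEquiv.refl φ'.symm
    let e4 : k' ⊗[R] S ≃ₐ[k'] k' ⊗[κ] (p.Fiber S) :=
      (Algebra.TensorProduct.cancelBaseChange R κ k' k' S).symm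
    exact ⟨((e1.trans e2).trans (e3.trans e4)).toRingEquiv⟩
  refine ⟨?_, fun k' _ _ hk' => ?_⟩
  · obtain ⟨E⟩ := key κ'
    let ι : p.Fiber S →+* κ' ⊗[κ] p.Fiber S :=
      (Algebra.TensorProduct.includeRight : p.Fiber S →ₐ[κ] κ' ⊗[κ] p.Fiber S).toRingHom
    have hι : Function.Surjective ι := fun z => by
      induction z with
      | zero => exact ⟨0, map_zero _⟩
      | add a b ha hb =>
        obtain ⟨a, rfl⟩ := ha
        obtain ⟨b, rfl⟩ := hb
        exact ⟨a + b, map_add _ _ _⟩
      | tmul c x =>
        obtain ⟨d, rfl⟩ := hsurj c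
        refine ⟨d • x, ?_⟩
        show (1 : κ') ⊗ₜ[κ] (d • x) = algebraMap κ κ' d ⊗ₜ[κ] x
        rw [TensorProduct.tmul_smul, TensorProduct.smul_tmul', Algebra.algebraMap_eq_smul_one]
    haveI : IsNoetherianRing (κ' ⊗[κ] p.Fiber S) := isNoetherianRing_of_surjective _ _ ι hι
    exact isNoetherianRing_of_ringEquiv (κ' ⊗[κ] p.Fiber S)
      (E.symm.trans (Algebra.TensorProduct.lid κ' (p'.Fiber S')).toRingEquiv)
  · letI : Algebra κ k' := ((algebraMap κ' k').comp (algebraMap κ κ')).toAlgebra
    haveI : IsScalarTower κ κ' k' := .of_algebraMap_eq fun _ => rfl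
    haveI : Module.Finite κ k' := Module.Finite.trans κ' k'
    haveI : IsRegularRing (k' ⊗[κ] p.Fiber S) := hG k' inferInstance
    obtain ⟨E⟩ := key k'
    exact IsRegularRing.of_ringEquiv (R := k' ⊗[κ] p.Fiber S) E.symm

/-- Regularity of the completion map of a local ring is invariant under isomorphisms. -/
theorem isRegularHom_completion_of_ringEquiv {R R' : Type u} [CommRing R] [CommRing R']
    [IsLocalRing R] [IsLocalRing R'] (e : R ≃+* R')
    (h : CAlg.IsRegularHom R (AdicCompletion (IsLocalRing.maximalIdeal R) R)) :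
    CAlg.IsRegularHom R' (AdicCompletion (IsLocalRing.maximalIdeal R') R') := by
  have hm : (IsLocalRing.maximalIdeal R).map (e : R →+* R') = IsLocalRing.maximalIdeal R' :=
    IsLocalRing.map_ringEquiv_maximalIdeal e
  exact isRegularHom_of_ringEquiv e (complEquiv e _ _ hm) (complEquiv_algebraMap e _ _ hm) h

end Groth.Agent.ExcLib
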