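import Mathlib
import Groth.Prelude.Def_EGA4b
import Groth.Agent.ExcLib.Transfer
import Groth.Agent.CatLib.Basic
import Groth.Agent.RegLocLib.Basic

/-!
Localizations of excellent rings.
-/

set_option autoImplicit false

universe u

namespace Groth.Agent.ExcLib

theorem exists_subalgebra_isLocalization {A AS B : Type u} [CommRing A] [CommRing AS] [CommRing B]
    (S : Submonoid A) [Algebra A AS] [IsLocalization S AS] [Algebra AS B] [Algebra A B]
    [IsScalarTower A AS B] [Algebra.FiniteType AS B] :
    ∃ B₀ : Subalgebra A B, Algebra.FiniteType A B₀ ∧ IsLocalization (Algebra.algebraMapSubmonoid B₀ S) B := by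
  classical
  obtain ⟨T, hT⟩ := (inferInstance : Algebra.FiniteType AS B).out
  let B₀ : Subalgebra A B := Algebra.adjoin A (T : Set B)
  refine ⟨B₀, (Subalgebra.fg_iff_finiteType _).1 ⟨T, rfl⟩, ?_⟩
  have hunit : ∀ s : S, IsUnit (algebraMap A B s) := fun s => by
    rw [IsScalarTower.algebraMap_apply A AS B]
    exact (IsLocalization.map_units AS s).map _
  refine { map_units := ?_, surj := ?_, exists_of_eq := ?_ }
  · rintro ⟨_, s, hs, rfl⟩
    exact hunit ⟨s, hs⟩
  · intro z
    have hz : z ∈ Algebra.adjoin AS (T : Set B) := hT ▸ trivial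
    suffices h : ∃ s : S, z * algebraMap A B s ∈ B₀ by
      obtain ⟨s, hs⟩ := h
      exact ⟨(⟨_, hs⟩, ⟨algebraMap A B₀ s, s, s.2, rfl⟩), rfl⟩
    induction hz using Algebra.adjoin_induction with
    | mem x hx => exact ⟨1, by simpa using Algebra.subset_adjoin hx⟩
    | algebraMap r =>
      obtain ⟨⟨a, s⟩, has⟩ := IsLocalization.surj S r
      refine ⟨s, ?_⟩
      rw [IsScalarTower.algebraMap_apply A AS B, ← map_mul, has, ← IsScalarTower.algebraMap_apply]
      exact B₀.algebraMap_mem a
    | add x y _ _ hx hy =>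
      obtain ⟨s, hs⟩ := hx
      obtain ⟨t, ht⟩ := hy
      refine ⟨s * t, ?_⟩
      rw [Submonoid.coe_mul, map_mul, add_mul, ← mul_assoc, mul_comm (algebraMap A B s), ← mul_assoc y]
      exact add_mem (mul_mem hs (B₀.algebraMap_mem _)) (mul_mem ht (B₀.algebraMap_mem _))
    | mul x y _ _ hx hy =>
      obtain ⟨s, hs⟩ := hx
      obtain ⟨t, ht⟩ := hy
      refine ⟨s * t, ?_⟩
      rw [Submonoid.coe_mul, map_mul, mul_mul_mul_comm]
      exact mul_mem hs ht
  · intro x y hxy
    exact ⟨1, by rw [Subtype.ext (show (x : B) = y from hxy)]⟩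

theorem isJ2_of_isLocalization {A AS : Type u} [CommRing A] [CommRing AS] (S : Submonoid A)
    [Algebra A AS] [IsLocalization S AS] (h : EGA4.IsJ2 A) : EGA4.IsJ2 AS := by
  intro B _ _ hB
  letI : Algebra A B := ((algebraMap AS B).comp (algebraMap A AS)).toAlgebra
  haveI : IsScalarTower A AS B := .of_algebraMap_eq fun _ => rfl
  haveI := hB
  obtain ⟨B₀, hfin, hloc⟩ := exists_subalgebra_isLocalization (A := A) (AS := AS) (B := B) S
  haveI := hloc
  have heq : EGA4.regLocus B = PrimeSpectrum.comap (algebraMap B₀ B) ⁻¹' EGA4.regLocus B₀ :=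
    Set.ext fun q => RegLocLib.mem_regLocus_iff_of_isLocalization (Algebra.algebraMapSubmonoid B₀ S) q
  rw [heq]
  exact (h B₀ hfin).preimage (PrimeSpectrum.continuous_comap _)

theorem isUniversallyCatenary_of_isLocalization {A AS : Type u} [CommRing A] [CommRing AS]
    (S : Submonoid A) [Algebra A AS] [IsLocalization S AS] (h : CAlg.IsUniversallyCatenary A) :
    CAlg.IsUniversallyCatenary AS := by
  refine ⟨IsLocalization.isNoetherianRing S AS h.1, fun B _ _ hB => ?_⟩
  letI : Algebra A B := ((algebraMap AS B).comp (algebraMap A AS)).toAlgebra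
  haveI : IsScalarTower A AS B := .of_algebraMap_eq fun _ => rfl
  haveI := hB
  obtain ⟨B₀, hfin, hloc⟩ := exists_subalgebra_isLocalization (A := A) (AS := AS) (B := B) S
  haveI := hloc
  exact CatLib.isCatenary_of_isLocalization (Algebra.algebraMapSubmonoid B₀ S) (h.2 B₀ hfin)

theorem isGRing_of_isLocalization {A AS : Type u} [CommRing A] [CommRing AS]
    (S : Submonoid A) [Algebra A AS] [IsLocalization S AS] (h : CAlg.IsGRing A) :
    CAlg.IsGRing AS := by
  refine ⟨IsLocalization.isNoetherianRing S AS h.1, fun P _ => ?_⟩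
  let p : Ideal A := P.under A
  haveI : IsLocalization.AtPrime (Localization.AtPrime P) p :=
    IsLocalization.isLocalization_isLocalization_atPrime_isLocalization S (Localization.AtPrime P) P
  exact isRegularHom_completion_of_ringEquiv
    (IsLocalization.algEquiv p.primeCompl (Localization.AtPrime p) (Localization.AtPrime P)).toRingEquiv
    (h.2 p)

end Groth.Agent.ExcLib
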