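import Mathlib
import Groth.Prelude.Def_Found
import Groth.Agent.RegLocal.Completion
import Groth.Agent.RegLocal.Basic

/-!
The completion map of a field or of a discrete valuation ring of characteristic zero is regular.
-/

set_option autoImplicit false

universe u

open TensorProduct IsLocalRing

namespace Groth.Agent.ExcLib

theorem isRegularRing_of_isArtinian_reduced (T : Type u) [CommRing T] [IsArtinianRing T] [IsReduced T] :
    IsRegularRing T := by
  refine isRegularRing_iff.2 fun P hP => ?_
  haveI := hP
  haveI : IsReduced (Localization.AtPrime P) := inferInstance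
  have hfield := IsArtinianRing.isField_of_isReduced_of_isLocalRing (Localization.AtPrime P)
  let := hfield.toField
  exact (inferInstance : IsRegularLocalRing (Localization.AtPrime P))

/-- A field extension of a perfect field is geometrically regular. -/
theorem isRegularRing_tensor_of_finite_separable (k k' L : Type u) [Field k] [Field k'] [Field L]
    [Algebra k k'] [Algebra k L] [Module.Finite k k'] [Algebra.IsSeparable k k'] :
    IsRegularRing (k' ⊗[k] L) := by
  haveI : Algebra.FormallyEtale k k' := Algebra.FormallyEtale.of_isSeparable k k'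
  haveI : Algebra.FormallyUnramified L (L ⊗[k] k') := inferInstance
  haveI : Module.Finite L (L ⊗[k] k') := inferInstance
  haveI : IsArtinianRing (L ⊗[k] k') := IsArtinianRing.of_finite L _
  haveI : IsReduced (L ⊗[k] k') := Algebra.FormallyUnramified.isReduced_of_field L _
  haveI : IsArtinianRing (k' ⊗[k] L) :=
    (Algebra.TensorProduct.comm k L k').toRingEquiv.surjective.isArtinianRing
  haveI : IsReduced (k' ⊗[k] L) :=
    isReduced_of_injective (Algebra.TensorProduct.comm k k' L) (AlgEquiv.injective _)
  exact isRegularRing_of_isArtinian_reduced _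

/-- A ring that is a quotient of a field and nonzero is regular. -/
theorem isRegularRing_of_surjective_field {F T : Type u} [Field F] [CommRing T] [Nontrivial T]
    (f : F →+* T) (hf : Function.Surjective f) : IsRegularRing T :=
  IsRegularRing.of_ringEquiv (RingEquiv.ofBijective f ⟨f.injective, hf⟩)

variable (R : Type u) [CommRing R] [IsLocalRing R] [IsNoetherianRing R]

local notation "Rhat" => AdicCompletion (maximalIdeal R) R

theorem closedFibre_surjective (K : Type u) [Field K] [Algebra R K]
    (h : maximalIdeal R ≤ RingHom.ker (algebraMap R K)) :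
    Function.Surjective ((Algebra.TensorProduct.includeLeft : K →ₐ[R] K ⊗[R] Rhat)) := by
  intro z
  induction z with
  | zero => exact ⟨0, map_zero _⟩
  | add a b ha hb =>
    obtain ⟨a, rfl⟩ := ha
    obtain ⟨b, rfl⟩ := hb
    exact ⟨a + b, map_add _ _ _⟩
  | tmul c x =>
    obtain ⟨r, hr⟩ := Ideal.Quotient.mk_surjective (AdicCompletion.evalOneₐ (maximalIdeal R) x)
    haveI : IsLocalRing Rhat := RegLocal.isLocalRing_completion R (maximalIdeal R) (maximalIdeal.isMaximal R).ne_top
    have hmem : x - algebraMap R Rhat r ∈ (maximalIdeal R).map (algebraMap R Rhat) := by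
      rw [← AdicCompletion.maximalIdeal_eq_map, IsLocalRing.mem_maximalIdeal, mem_nonunits_iff]
      intro hu
      have hu' := hu.map (AdicCompletion.evalOneₐ (maximalIdeal R)).toRingHom
      simp only [AlgHom.toRingHom_eq_coe, RingHom.coe_coe, map_sub, AlgHom.commutes,
        Ideal.Quotient.algebraMap_eq, hr, sub_self] at hu'
      haveI : Nontrivial (R ⧸ maximalIdeal R) := Ideal.Quotient.nontrivial_iff.mpr (maximalIdeal.isMaximal R).ne_top
      exact not_isUnit_zero hu'
    have hzero : ∀ y ∈ (maximalIdeal R).map (algebraMap R Rhat), c ⊗ₜ[R] y = 0 := by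
      intro y hy
      rw [Ideal.map, ← Set.image_id ((algebraMap R Rhat : R → Rhat) '' _)] at hy
      induction hy using Submodule.span_induction generalizing c with
      | mem w hw =>
        obtain ⟨_, ⟨a, ha, rfl⟩, rfl⟩ := hw
        rw [id, Algebra.algebraMap_eq_smul_one, TensorProduct.tmul_smul, TensorProduct.smul_tmul',
          Algebra.smul_def, show algebraMap R K a = 0 from h ha, zero_mul, TensorProduct.zero_tmul]
      | zero => exact TensorProduct.tmul_zero _ _
      | add u v _ _ hu hv => rw [TensorProduct.tmul_add, hu, hv, add_zero]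
      | smul a w _ hw =>
        have : c ⊗ₜ[R] (a • w) = ((1 : K) ⊗ₜ[R] a) * (c ⊗ₜ[R] w) := by
          rw [Algebra.TensorProduct.tmul_mul_tmul, one_mul, smul_eq_mul]
        rw [this, hw, mul_zero]
    refine ⟨r • c, ?_⟩
    have := hzero _ hmem
    rw [TensorProduct.tmul_sub, sub_eq_zero] at this
    rw [this]
    show (r • c) ⊗ₜ[R] (1 : Rhat) = _
    rw [Algebra.algebraMap_eq_smul_one, TensorProduct.tmul_smul, TensorProduct.smul_tmul']

theorem nontrivial_closedFibre (K : Type u) [Field K] [Algebra R K] :
    Nontrivial (K ⊗[R] Rhat) :=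
  haveI := RegLocal.faithfullyFlat_completion R (maximalIdeal R) (maximalIdeal.isMaximal R).ne_top
  haveI := Module.FaithfullyFlat.lTensor_nontrivial R Rhat K
  (TensorProduct.comm R K Rhat).toEquiv.nontrivial

theorem isRegular_closedFibre (K : Type u) [Field K] [Algebra R K]
    (h : maximalIdeal R ≤ RingHom.ker (algebraMap R K)) : IsRegularRing (K ⊗[R] Rhat) :=
  haveI := nontrivial_closedFibre R K
  isRegularRing_of_surjective_field _ (closedFibre_surjective R K h)

theorem fibre_maximal :
    IsNoetherianRing ((maximalIdeal R).Fiber Rhat) ∧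
      CAlg.IsGeometricallyRegular (maximalIdeal R).ResidueField ((maximalIdeal R).Fiber Rhat) := by
  have hker : maximalIdeal R ≤ RingHom.ker (algebraMap R (maximalIdeal R).ResidueField) :=
    fun x hx => Ideal.algebraMap_residueField_eq_zero.2 hx
  refine ⟨isNoetherianRing_of_surjective _ _ _
    (closedFibre_surjective R (maximalIdeal R).ResidueField hker), fun k' _ _ _ => ?_⟩
  letI : Algebra R k' := ((algebraMap (maximalIdeal R).ResidueField k').comp (algebraMap R _)).toAlgebra
  haveI : IsScalarTower R (maximalIdeal R).ResidueField k' := .of_algebraMap_eq fun _ => rfl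
  haveI := isRegular_closedFibre R k' (fun x hx => by
    rw [RingHom.mem_ker, IsScalarTower.algebraMap_apply R (maximalIdeal R).ResidueField k',
      show algebraMap R (maximalIdeal R).ResidueField x = 0 from hker hx, map_zero])
  exact IsRegularRing.of_ringEquiv (R := k' ⊗[R] Rhat)
    (Algebra.TensorProduct.cancelBaseChange R (maximalIdeal R).ResidueField k' k' Rhat).symm.toRingEquiv

theorem fibre_bot [IsDomain R] [IsDiscreteValuationRing R] [CharZero R] [(⊥ : Ideal R).IsPrime] :
    IsNoetherianRing ((⊥ : Ideal R).Fiber Rhat) ∧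
      CAlg.IsGeometricallyRegular (⊥ : Ideal R).ResidueField ((⊥ : Ideal R).Fiber Rhat) := by
  have hm := (maximalIdeal.isMaximal R).ne_top
  haveI := RegLocal.isLocalRing_completion R (maximalIdeal R) hm
  haveI := RegLocal.faithfullyFlat_completion R (maximalIdeal R) hm
  have hinj : Function.Injective (algebraMap R Rhat) := FaithfulSMul.algebraMap_injective R Rhat
  haveI hreg : IsRegularLocalRing Rhat :=
    (RegLocal.isRegularLocalRing_completion_iff R (maximalIdeal R) hm).1 inferInstance
  haveI : IsDomain Rhat := RegLocal.isDomain Rhat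
  let κ := (⊥ : Ideal R).ResidueField
  have hκ0 : ∀ a : R, algebraMap R κ a = 0 ↔ a = 0 := fun a => by
    rw [Ideal.algebraMap_residueField_eq_zero, Ideal.mem_bot]
  -- the fibre is the field of fractions of the completion
  have hfield : IsField ((⊥ : Ideal R).Fiber Rhat) := by
    obtain ⟨ϖ, hϖ⟩ := IsDiscreteValuationRing.exists_irreducible R
    have hc : maximalIdeal Rhat = Ideal.span {algebraMap R Rhat ϖ} := by
      rw [AdicCompletion.maximalIdeal_eq_map, Irreducible.maximalIdeal_eq hϖ, Ideal.map_span, Set.image_singleton]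
    have hc0 : algebraMap R Rhat ϖ ≠ 0 := fun h => hϖ.ne_zero (hinj (h.trans (map_zero _).symm))
    haveI : IsDiscreteValuationRing Rhat := by
      have hnf : ¬ IsField Rhat := fun hf => hc0 (by
        have h := (IsLocalRing.isField_iff_maximalIdeal_eq.1 hf)
        rw [hc, Ideal.span_singleton_eq_bot] at h
        exact h)
      exact ((IsDiscreteValuationRing.TFAE Rhat hnf).out 4 0 rfl rfl).1 ⟨_, hc⟩
    have hirr : Irreducible (algebraMap R Rhat ϖ) :=
      IsDiscreteValuationRing.irreducible_of_span_eq_maximalIdeal _ hc0 hc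
    haveI : Nontrivial ((⊥ : Ideal R).Fiber Rhat) := nontrivial_closedFibre R κ
    refine ⟨⟨0, 1, zero_ne_one⟩, mul_comm, fun {z} hz => ?_⟩
    -- every element is a fraction with denominator from `R`
    have hrep : ∀ z : κ ⊗[R] Rhat, ∃ (a : R) (x : Rhat), a ≠ 0 ∧ (algebraMap R κ a) • z = (1 : κ) ⊗ₜ[R] x := by
      intro z
      induction z with
      | zero => exact ⟨1, 0, one_ne_zero, by simp⟩
      | tmul c x =>
        obtain ⟨c, rfl⟩ := residue_surjective c
        obtain ⟨b, s, rfl⟩ := IsLocalization.exists_mk'_eq (⊥ : Ideal R).primeCompl c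
        refine ⟨s, b • x, fun h => s.2 (by simp [h]), ?_⟩
        rw [TensorProduct.smul_tmul', TensorProduct.tmul_smul, TensorProduct.smul_tmul', Algebra.smul_def b (1 : κ),
          mul_one, smul_eq_mul]
        congr 1
        rw [IsScalarTower.algebraMap_apply R (Localization.AtPrime (⊥ : Ideal R)) κ,
          IsScalarTower.algebraMap_apply R (Localization.AtPrime (⊥ : Ideal R)) κ b,
          IsLocalRing.ResidueField.algebraMap_eq, ← map_mul, IsLocalization.mk'_spec']
      | add u v hu hv =>
        obtain ⟨a, x, ha, hax⟩ := hu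
        obtain ⟨b, y, hb, hby⟩ := hv
        refine ⟨a * b, b • x + a • y, mul_ne_zero ha hb, ?_⟩
        rw [map_mul, smul_add, TensorProduct.tmul_add, TensorProduct.tmul_smul, TensorProduct.tmul_smul,
          ← hax, ← hby]
        congr 1
        · rw [mul_comm, mul_smul, algebraMap_smul]
        · rw [mul_smul, algebraMap_smul κ a]
    obtain ⟨a, x, ha, hax⟩ := hrep z
    have hau : IsUnit (algebraMap R κ a) := isUnit_iff_ne_zero.2 fun h => ha ((hκ0 a).1 h)
    have hx0 : x ≠ 0 := fun h => hz (by
      rw [h, TensorProduct.tmul_zero] at hax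
      exact hau.smul_eq_zero.1 hax)
    obtain ⟨n, u, rfl⟩ := IsDiscreteValuationRing.eq_unit_mul_pow_irreducible hx0 hirr
    have hunit : IsUnit ((1 : κ) ⊗ₜ[R] ((u : Rhat) * algebraMap R Rhat ϖ ^ n)) := by
      have h1 : IsUnit ((1 : κ) ⊗ₜ[R] (u : Rhat)) :=
        u.isUnit.map (Algebra.TensorProduct.includeRight : Rhat →ₐ[R] κ ⊗[R] Rhat)
      have h2 : IsUnit ((1 : κ) ⊗ₜ[R] (algebraMap R Rhat ϖ)) := by
        rw [Algebra.algebraMap_eq_smul_one, TensorProduct.tmul_smul, TensorProduct.smul_tmul',
          ← Algebra.algebraMap_eq_smul_one]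
        exact (isUnit_iff_ne_zero.2 fun h => hϖ.ne_zero ((hκ0 ϖ).1 h)).map
          (Algebra.TensorProduct.includeLeft : κ →ₐ[R] κ ⊗[R] Rhat)
      have := h1.mul (h2.pow n)
      rwa [Algebra.TensorProduct.tmul_pow, one_pow, Algebra.TensorProduct.tmul_mul_tmul, one_mul] at this
    rw [← hax] at hunit
    have hunit' : IsUnit ((algebraMap R κ a ⊗ₜ[R] (1 : Rhat)) * z) := by
      convert hunit using 1
      exact (Algebra.smul_def (algebraMap R κ a) z).symm
    exact (isUnit_of_mul_isUnit_right hunit').exists_right_inv
  letI := hfield.toField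
  haveI : CharZero κ := charZero_of_injective_algebraMap
    (fun a b hab => sub_eq_zero.1 ((hκ0 _).1 (by rw [map_sub, hab, sub_self])) : Function.Injective (algebraMap R κ))
  refine ⟨inferInstance, fun k' _ _ hk' => ?_⟩
  haveI := hk'
  exact isRegularRing_tensor_of_finite_separable κ k' ((⊥ : Ideal R).Fiber Rhat)

theorem isRegularHom_completion_field (hR : IsField R) : CAlg.IsRegularHom R Rhat := by
  refine ⟨(RegLocal.faithfullyFlat_completion R (maximalIdeal R) (maximalIdeal.isMaximal R).ne_top).toFlat, fun p hp => ?_⟩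
  letI := hR.toField
  have hpm : p = maximalIdeal R := by
    rw [(Ideal.eq_bot_or_top p).resolve_right hp.ne_top, IsLocalRing.isField_iff_maximalIdeal_eq.1 hR]
  subst hpm
  exact fibre_maximal R

theorem isRegularHom_completion_dvr [IsDomain R] [IsDiscreteValuationRing R] [CharZero R] :
    CAlg.IsRegularHom R Rhat := by
  refine ⟨(RegLocal.faithfullyFlat_completion R (maximalIdeal R) (maximalIdeal.isMaximal R).ne_top).toFlat, fun p hp => ?_⟩
  by_cases h0 : p = ⊥
  · subst h0
    exact fibre_bot R
  · obtain rfl : p = maximalIdeal R := IsLocalRing.eq_maximalIdeal (hp.isMaximal h0)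
    exact fibre_maximal R

end Groth.Agent.ExcLib
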